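import Groth.Agent.L05.IndEt.Localization
import Groth.Agent.L05.Henselization.ValuationExt
import Mathlib.RingTheory.Unramified.LocalStructure
import Mathlib.RingTheory.Smooth.Locus
import Mathlib.RingTheory.Ideal.GoingDown
import Mathlib.RingTheory.MvPolynomial.Ideal
import Mathlib.RingTheory.Flat.Stability
import Mathlib.RingTheory.Etale.Basic
import Mathlib.RingTheory.RingHom.StandardSmooth

/-!
# Smooth algebras over valuation rings at generic points of the special fibre
-/

set_option autoImplicit false
set_option linter.style.haveILetI false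

open IsLocalRing MvPolynomial

namespace Groth.L05.IndEt

universe u

/-- The localization of a polynomial ring over a valuation ring at `m[X]`. -/
theorem gauss (V : Type u) [CommRing V] [IsDomain V] [ValuationRing V] (σ : Type*) :
    ∀ (q : Ideal (MvPolynomial σ V)) [q.IsPrime], q = (maximalIdeal V).map C →
      ∀ x : Localization.AtPrime q, x ≠ 0 →
        ∃ (v : V) (w : (Localization.AtPrime q)ˣ), x = algebraMap V (Localization.AtPrime q) v * w := by
  classical
  intro q _ hq x hx
  obtain ⟨f, s, rfl⟩ := IsLocalization.exists_mk'_eq q.primeCompl x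
  have hf : f ≠ 0 := fun h => hx (by rw [h, IsLocalization.mk'_zero])
  obtain ⟨i, hi, hdvd⟩ := Groth.L05.Henselization.ValuationExt.exists_dvd_all f.support
    (MvPolynomial.support_nonempty.mpr hf) (fun m => f.coeff m)
  obtain ⟨g, hg⟩ : C (f.coeff i) ∣ f := (MvPolynomial.C_dvd_iff_dvd_coeff _ _).mpr fun j => by
    by_cases hj : j ∈ f.support
    · exact hdvd j hj
    · rw [MvPolynomial.notMem_support_iff.mp hj]; exact dvd_zero _
  have hgi : g.coeff i = 1 := by
    have := congrArg (fun p => p.coeff i) hg
    simp only [coeff_C_mul] at this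
    exact mul_left_cancel₀ (MvPolynomial.mem_support_iff.mp hi) (this.symm.trans (mul_one _).symm)
  have hgq : g ∈ q.primeCompl := fun h => by
    have h1 := MvPolynomial.mem_map_C_iff.mp (hq ▸ h) i
    rw [hgi] at h1
    exact (maximalIdeal.isMaximal V).ne_top ((Ideal.eq_top_iff_one _).mpr h1)
  refine ⟨f.coeff i, (IsLocalization.map_units _ ⟨g, hgq⟩).unit *
    ((IsLocalization.map_units _ s).unit)⁻¹, ?_⟩
  rw [IsLocalization.mk'_eq_iff_eq_mul, Units.val_mul, IsUnit.unit_spec,
    mul_assoc, mul_assoc, IsUnit.val_inv_mul, mul_one, IsScalarTower.algebraMap_apply V (MvPolynomial σ V),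
    MvPolynomial.algebraMap_eq, ← map_mul, ← hg]

theorem main (V : Type u) [CommRing V] [IsDomain V] [ValuationRing V]
    (A : Type u) [CommRing A] [Algebra V A] [Algebra.Smooth V A]
    (p : Ideal A) [p.IsPrime] (hp : p ∈ ((maximalIdeal V).map (algebraMap V A)).minimalPrimes) :
    IsDomain (Localization.AtPrime p) ∧
    (∀ _ : IsDomain (Localization.AtPrime p), ValuationRing (Localization.AtPrime p)) ∧
      Function.Injective (algebraMap V (Localization.AtPrime p)) ∧
      IsLocalHom (algebraMap V (Localization.AtPrime p)) ∧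
      ∀ x : Localization.AtPrime p, x ≠ 0 →
        ∃ (v : V) (w : (Localization.AtPrime p)ˣ), x = algebraMap V (Localization.AtPrime p) v * w := by
  classical
  obtain ⟨f, hf, n, alg, htow, hstd⟩ := Algebra.IsSmoothAt.exists_isStandardEtale_mvPolynomial (R := V) (p := p)
  let S := Localization.Away f
  let Q : Ideal S := p.map (algebraMap A S)
  have hdisj : Disjoint (Submonoid.powers f : Set A) p :=
    (Ideal.disjoint_powers_iff_notMem_of_isPrime f).2 hf
  haveI : Q.IsPrime := IsLocalization.isPrime_of_isPrime_disjoint _ _ p ‹_› hdisj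
  have hcomap : Q.comap (algebraMap A S) = p :=
    IsLocalization.comap_map_of_isPrime_disjoint (Submonoid.powers f) _ ‹_› hdisj
  let P := MvPolynomial (Fin n) V
  haveI : Algebra.Etale P S := inferInstance
  let q : Ideal P := Q.comap (algebraMap P S)
  let q₀ : Ideal P := (maximalIdeal V).map C
  haveI : q₀.IsPrime := by
    have : q₀ = RingHom.ker (MvPolynomial.map (residue V)) := by
      rw [MvPolynomial.ker_map, ker_residue]
    rw [this]
    exact RingHom.ker_isPrime _
  have hpm : (maximalIdeal V).map (algebraMap V A) ≤ p := hp.1.2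
  have hq₀ : q₀ ≤ q := by
    rw [Ideal.map_le_iff_le_comap]
    intro v hv
    show algebraMap P S (algebraMap V P v) ∈ Q
    rw [← IsScalarTower.algebraMap_apply, IsScalarTower.algebraMap_apply V A S]
    exact Ideal.mem_map_of_mem _ (hpm (Ideal.mem_map_of_mem _ hv))
  have hq : q = q₀ := by
    haveI : Q.LiesOver q := ⟨rfl⟩
    obtain ⟨Q', hQ'Q, hQ', hlies⟩ := Ideal.exists_ideal_le_liesOver_of_le (R := P) Q hq₀
    haveI := hQ'
    have h1 : (maximalIdeal V).map (algebraMap V A) ≤ Q'.comap (algebraMap A S) := by
      rw [Ideal.map_le_iff_le_comap]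
      intro v hv
      show algebraMap A S (algebraMap V A v) ∈ Q'
      rw [← IsScalarTower.algebraMap_apply, IsScalarTower.algebraMap_apply V P S]
      have h2 : algebraMap V P v ∈ Q'.under P :=
        hlies.over ▸ Ideal.mem_map_of_mem (C : V →+* P) hv
      exact h2
    have h2 := hp.2 ⟨inferInstance, h1⟩ (fun x hx => hcomap ▸ Ideal.comap_mono hQ'Q hx)
    have h3 : Q' = Q := le_antisymm hQ'Q (Ideal.map_le_iff_le_comap.mpr h2)
    exact (hlies.over.trans (by rw [h3])).symm
  haveI : q.IsPrime := Ideal.IsPrime.comap _
  let W := Localization.AtPrime q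
  have hgauss := gauss V (Fin n) q hq
  haveI : IsDomain W := IsLocalization.isDomain_localization q.primeCompl_le_nonZeroDivisors
  haveI : ValuationRing W := ValuationRing.iff_dvd_total.mpr ⟨fun a b => by
    rcases eq_or_ne a 0 with rfl | ha
    · exact Or.inr (dvd_zero _)
    rcases eq_or_ne b 0 with rfl | hb
    · exact Or.inl (dvd_zero _)
    obtain ⟨v, x, rfl⟩ := hgauss a ha
    obtain ⟨v', x', rfl⟩ := hgauss b hb
    rcases ValuationRing.dvd_total v v' with h | h
    · exact Or.inl (Units.mul_right_dvd.mpr (dvd_mul_of_dvd_left (map_dvd _ h) _))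
    · exact Or.inr (Units.mul_right_dvd.mpr (dvd_mul_of_dvd_left (map_dvd _ h) _))⟩
  let L := Localization.AtPrime p
  letI : Algebra S L := (IsLocalization.map (M := Submonoid.powers f) (T := p.primeCompl) L (RingHom.id A)
    (Submonoid.powers_le.mpr hf)).toAlgebra
  haveI : IsScalarTower A S L := IsScalarTower.of_algebraMap_eq fun a => by
    rw [RingHom.algebraMap_toAlgebra, IsLocalization.map_eq]
    rfl
  haveI : IsScalarTower V S L := IsScalarTower.of_algebraMap_eq fun v => by
    rw [IsScalarTower.algebraMap_apply V A L, IsScalarTower.algebraMap_apply V A S,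
      ← IsScalarTower.algebraMap_apply A S L]
  haveI : IsLocalization (p.primeCompl.map (algebraMap A S)) L :=
    IsLocalization.isLocalization_of_submonoid_le S L (Submonoid.powers f) p.primeCompl
      (Submonoid.powers_le.mpr hf)
  letI : Algebra P L := ((algebraMap S L).comp (algebraMap P S)).toAlgebra
  haveI : IsScalarTower P S L := IsScalarTower.of_algebraMap_eq' rfl
  haveI : IsScalarTower V P L := IsScalarTower.of_algebraMap_eq fun v => by
    rw [RingHom.algebraMap_toAlgebra, RingHom.comp_apply, ← IsScalarTower.algebraMap_apply V P S,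
      ← IsScalarTower.algebraMap_apply V S L]
  have hunit : ∀ s : S, s ∉ Q → IsUnit (algebraMap S L s) := fun s hs => by
    obtain ⟨⟨a, t⟩, hat⟩ := IsLocalization.surj (Submonoid.powers f) s
    have ha : a ∉ p := fun h => hs <|
      (Ideal.unit_mul_mem_iff_mem Q (IsLocalization.map_units S t)).mp
        (by rw [mul_comm, hat]; exact Ideal.mem_map_of_mem _ h)
    have h := congrArg (algebraMap S L) hat
    rw [map_mul, ← IsScalarTower.algebraMap_apply A S L, ← IsScalarTower.algebraMap_apply A S L] at h
    exact isUnit_of_mul_isUnit_left (h ▸ IsLocalization.map_units L (⟨a, ha⟩ : p.primeCompl))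
  letI : Algebra W L := (IsLocalization.lift (M := q.primeCompl) (g := algebraMap P L)
    (fun y => hunit _ y.2)).toAlgebra
  haveI : IsScalarTower P W L := IsScalarTower.of_algebraMap_eq fun x =>
    (IsLocalization.lift_eq _ x).symm
  haveI : IsScalarTower V W L := IsScalarTower.of_algebraMap_eq fun v => by
    rw [IsScalarTower.algebraMap_apply V P L, IsScalarTower.algebraMap_apply V P W,
      ← IsScalarTower.algebraMap_apply P W L]
  haveI : IsLocalHom (algebraMap W L) := ⟨fun x hx => by
    obtain ⟨a, s, rfl⟩ := IsLocalization.exists_mk'_eq q.primeCompl x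
    rw [IsLocalization.AtPrime.isUnit_mk'_iff W q a s]
    intro ha
    have h := congrArg (algebraMap W L) (IsLocalization.mk'_spec W a s)
    rw [map_mul, ← IsScalarTower.algebraMap_apply P W L, ← IsScalarTower.algebraMap_apply P W L] at h
    have hu : IsUnit (algebraMap P L a) := h ▸ hx.mul (hunit _ s.2)
    rw [IsScalarTower.algebraMap_apply P S L] at hu
    obtain ⟨⟨a', t⟩, hat⟩ := IsLocalization.surj (Submonoid.powers f) (algebraMap P S a)
    have h' := congrArg (algebraMap S L) hat
    rw [map_mul, ← IsScalarTower.algebraMap_apply A S L, ← IsScalarTower.algebraMap_apply A S L] at h'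
    have hu' : IsUnit (algebraMap A L a') := h' ▸ hu.mul
      (IsLocalization.map_units L (⟨(t : A), Submonoid.powers_le.mpr (show f ∈ p.primeCompl from hf) t.2⟩ : p.primeCompl))
    refine (IsLocalization.AtPrime.isUnit_to_map_iff L p a').mp hu' (hcomap ▸ ?_)
    show algebraMap A S a' ∈ Q
    rw [← hat]
    exact Q.mul_mem_right _ ha⟩
  have hie : EtPBC.IsIndEtale W L := by
    have h1 := isIndEtale_localization P S L (p.primeCompl.map (algebraMap A S))
    have h2 := Groth.L27.IndEtale.baseChange P L W h1
    exact Groth.L05.Henselization.isIndEtale_of_algEquiv (IsLocalization.algebraLid q.primeCompl W L) h2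
  haveI : Module.Flat S L := IsLocalization.flat _ (p.primeCompl.map (algebraMap A S))
  haveI : Module.Flat P L := Module.Flat.trans P S L
  haveI : Module.Flat W L := Module.Flat.of_linearEquiv (IsLocalization.moduleLid q.primeCompl W L).symm
  obtain ⟨h1, h2, h3, h4⟩ := Groth.L05.Henselization.ValuationExt.main W L hie
  have hVP : Function.Injective (algebraMap V P) := by
    rw [MvPolynomial.algebraMap_eq]; exact MvPolynomial.C_injective _ _
  have hinj : Function.Injective (algebraMap V L) := by
    rw [IsScalarTower.algebraMap_eq V W L, IsScalarTower.algebraMap_eq V P W]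
    exact h3.comp ((IsLocalization.injective W q.primeCompl_le_nonZeroDivisors).comp hVP)
  refine ⟨h1, h2, hinj, ⟨fun v hv => ?_⟩, fun x hx => ?_⟩
  · by_contra h
    rw [IsScalarTower.algebraMap_apply V A L] at hv
    exact (IsLocalization.AtPrime.isUnit_to_map_iff L p _).mp hv
      (hpm (Ideal.mem_map_of_mem _ ((mem_maximalIdeal v).mpr h)))
  · obtain ⟨a, u, rfl⟩ := h4 x hx
    have ha : a ≠ 0 := fun h => hx (by rw [h, map_zero, mul_zero])
    obtain ⟨v, w, rfl⟩ := hgauss a ha
    refine ⟨v, u * Units.map (algebraMap W L).toMonoidHom w, ?_⟩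
    rw [map_mul, ← IsScalarTower.algebraMap_apply V W L, Units.val_mul, Units.coe_map]
    simp only [RingHom.toMonoidHom_eq_coe, MonoidHom.coe_coe]
    ring

end Groth.L05.IndEt
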