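import Groth.Agent.L27.IndEtale
import Mathlib.RingTheory.Localization.Away.Basic
import Mathlib.RingTheory.Localization.Integer

/-!
# Localizations of étale algebras are ind-étale
-/

set_option autoImplicit false

open MvPolynomial

namespace Groth.L05.IndEt

universe u

theorem isIndEtale_localization (A B L : Type u) [CommRing A] [CommRing B] [CommRing L] [Algebra A B]
    [Algebra.Etale A B] [Algebra B L] [Algebra A L] [IsScalarTower A B L] (M : Submonoid B)
    [IsLocalization M L] : EtPBC.IsIndEtale A L := by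
  classical
  rw [Groth.L27.IndEtale.isIndEtale_iff_exists_factor]
  intro P _ _ _ φ
  obtain ⟨n, f, hf, G, hG⟩ := Algebra.FinitePresentation.out (R := A) (A := P)
  obtain ⟨b, hb⟩ := IsLocalization.exist_integer_multiples_of_finite M fun i => φ (f (X i))
  choose a ha using hb
  have hbL : IsUnit (IsScalarTower.toAlgHom A B L b) := IsLocalization.map_units L b
  let β₀ : Localization.Away (b : B) →ₐ[A] L := IsLocalization.Away.liftAlgHom (b : B) hbL
  let χ₀ : MvPolynomial (Fin n) A →ₐ[A] Localization.Away (b : B) :=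
    aeval fun i => algebraMap B _ (a i) * IsLocalization.Away.invSelf (b : B)
  have hχ₀ : β₀.comp χ₀ = φ.comp f := by
    refine MvPolynomial.algHom_ext fun i => ?_
    apply hbL.mul_right_cancel
    have h1 : IsScalarTower.toAlgHom A B L b * β₀ (IsLocalization.Away.invSelf (b : B)) = 1 := by
      have := congrArg β₀ (IsLocalization.Away.mul_invSelf (b : B) (S := Localization.Away (b : B)))
      rwa [map_mul, map_one, show β₀ (algebraMap B _ (b : B)) = IsScalarTower.toAlgHom A B L b from
        IsLocalization.Away.lift_eq (b : B) hbL (b : B)] at this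
    have h2 : algebraMap B L (a i) = algebraMap B L b * φ (f (X i)) := by
      rw [ha i, Algebra.smul_def]
    simp only [AlgHom.coe_comp, Function.comp_apply, χ₀, aeval_X, map_mul]
    rw [show β₀ (algebraMap B _ (a i)) = IsScalarTower.toAlgHom A B L (a i) from
        IsLocalization.Away.lift_eq (b : B) hbL (a i)]
    simp only [IsScalarTower.coe_toAlgHom'] at h1 ⊢
    linear_combination (algebraMap B L (a i)) * h1 + h2
  have key : ∀ g ∈ G, ∃ m : M, ∃ k : ℕ, ∃ c : B,
      χ₀ g * algebraMap B _ (b : B) ^ k = algebraMap B _ c ∧ (m : B) * c = 0 := by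
    intro g hg
    obtain ⟨k, c, hc⟩ := IsLocalization.Away.surj (b : B) (χ₀ g)
    have hg0 : φ (f g) = 0 := by
      rw [show f g = 0 from RingHom.mem_ker.mp (hG ▸ Ideal.subset_span hg), map_zero]
    have : algebraMap B L c = 0 := by
      have := congrArg β₀ hc
      rw [map_mul, ← AlgHom.comp_apply, hχ₀, AlgHom.comp_apply, hg0, zero_mul,
        show β₀ (algebraMap B _ c) = IsScalarTower.toAlgHom A B L c from
          IsLocalization.Away.lift_eq (b : B) hbL c] at this
      exact this.symm
    obtain ⟨m, hm⟩ := (IsLocalization.map_eq_zero_iff M L c).mp this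
    exact ⟨m, k, c, hc, hm⟩
  choose m k c hc hm using key
  let t : M := ∏ g ∈ G.attach, m g.1 g.2
  let w : B := (b : B) * t
  let E := Localization.Away w
  have hwE : IsUnit (algebraMap B E w) := IsLocalization.Away.algebraMap_isUnit w
  have hbE : IsUnit (IsScalarTower.toAlgHom A B E b) :=
    isUnit_of_dvd_unit (map_dvd (algebraMap B E) (Dvd.intro (t : B) rfl)) hwE
  have htE : IsUnit (algebraMap B E (t : B)) :=
    isUnit_of_dvd_unit (map_dvd (algebraMap B E) (Dvd.intro_left (b : B) rfl)) hwE
  let ψ : Localization.Away (b : B) →ₐ[A] E := IsLocalization.Away.liftAlgHom (b : B) hbE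
  have hwL : IsUnit (IsScalarTower.toAlgHom A B L w) := by
    simp only [w, map_mul]
    exact hbL.mul (IsLocalization.map_units L t)
  let β : E →ₐ[A] L := IsLocalization.Away.liftAlgHom w hwL
  have hψ : β.comp ψ = β₀ := by
    refine AlgHom.coe_ringHom_injective ?_
    refine IsLocalization.ringHom_ext (Submonoid.powers (b : B)) (RingHom.ext fun x => ?_)
    show β (ψ (algebraMap B _ x)) = β₀ (algebraMap B _ x)
    rw [show ψ (algebraMap B _ x) = IsScalarTower.toAlgHom A B E x from IsLocalization.Away.lift_eq (b : B) hbE x,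
      show β₀ (algebraMap B _ x) = IsScalarTower.toAlgHom A B L x from IsLocalization.Away.lift_eq (b : B) hbL x]
    exact IsLocalization.Away.lift_eq w hwL x
  have hker : ∀ x ∈ RingHom.ker f.toRingHom, (ψ.comp χ₀).toRingHom x = 0 := by
    rw [← hG]
    intro x hx
    refine Submodule.span_induction (p := fun x _ => (ψ.comp χ₀).toRingHom x = 0) ?_ (map_zero _) ?_ ?_ hx
    · intro g hg
      show ψ (χ₀ g) = 0
      have h := congrArg ψ (hc g hg)
      rw [map_mul, map_pow, show ψ (algebraMap B _ (b : B)) = IsScalarTower.toAlgHom A B E b from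
          IsLocalization.Away.lift_eq (b : B) hbE (b : B),
        show ψ (algebraMap B _ (c g hg)) = IsScalarTower.toAlgHom A B E (c g hg) from
          IsLocalization.Away.lift_eq (b : B) hbE (c g hg)] at h
      refine (hbE.pow (k g hg)).mul_left_eq_zero.mp (h.trans ?_)
      refine htE.mul_right_eq_zero.mp ?_
      rw [IsScalarTower.coe_toAlgHom', ← map_mul]
      obtain ⟨q, hq⟩ : (m g hg : B) ∣ (t : B) :=
        map_dvd M.subtype (Finset.dvd_prod_of_mem (fun g : {x // x ∈ G} => m g.1 g.2) (Finset.mem_attach G ⟨g, hg⟩))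
      rw [hq, mul_right_comm, hm g hg, zero_mul, map_zero]
    · intro x y _ _ hx hy
      rw [map_add, hx, hy, add_zero]
    · intro r x _ hx
      rw [smul_eq_mul, map_mul, hx, mul_zero]
  let α : P →ₐ[A] E := AlgHom.liftOfSurjective f hf (ψ.comp χ₀) hker
  haveI : Algebra.Etale B E := Algebra.Etale.of_isLocalizationAway w
  refine ⟨E, inferInstance, inferInstance, α, β, Algebra.Etale.comp A B E, AlgHom.ext fun p => ?_⟩
  obtain ⟨x, rfl⟩ := hf p
  show β (α (f x)) = φ (f x)
  rw [show α (f x) = ψ (χ₀ x) from AlgHom.liftOfSurjective_apply f hf (ψ.comp χ₀) hker x]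
  calc β (ψ (χ₀ x)) = (β.comp ψ).comp χ₀ x := rfl
    _ = φ (f x) := by rw [hψ, hχ₀]; rfl

end Groth.L05.IndEt
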